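import Mathlib

set_option autoImplicit false
universe u v

open Polynomial Matrix

namespace Groth.Agent.RN8

variable {R : Type u} [CommRing R] {n : ℕ}

/-- the Hankel matrix of the traces of the powers -/
def gram (X : Matrix (Fin n) (Fin n) R) : Matrix (Fin n) (Fin n) R :=
  Matrix.of fun i j => (X ^ ((i : ℕ) + (j : ℕ))).trace

lemma gram_map {S : Type v} [CommRing S] (f : R →+* S) (X : Matrix (Fin n) (Fin n) R) :
    (gram X).map f = gram (X.map f) := by
  ext i j
  simp only [gram, Matrix.map_apply, Matrix.of_apply]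
  rw [← Matrix.map_pow, AddMonoidHom.map_trace f]

lemma gram_smul (s : R) (X : Matrix (Fin n) (Fin n) R) :
    gram (s • X) = Matrix.diagonal (fun i : Fin n => s ^ (i : ℕ)) * gram X * Matrix.diagonal (fun i : Fin n => s ^ (i : ℕ)) := by
  ext i j
  rw [Matrix.mul_diagonal, Matrix.diagonal_mul]
  simp only [gram, Matrix.of_apply]
  rw [_root_.smul_pow, Matrix.trace_smul, smul_eq_mul, pow_add]
  ring

lemma gram_det_smul (s : R) (X : Matrix (Fin n) (Fin n) R) (h : (gram X).det = 0) : (gram (s • X)).det = 0 := by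
  rw [gram_smul, Matrix.det_mul, Matrix.det_mul, h, mul_zero, zero_mul]

lemma gram_conj (P : GL (Fin n) R) (X : Matrix (Fin n) (Fin n) R) :
    gram ((P : Matrix (Fin n) (Fin n) R) * X * ((P⁻¹ : GL (Fin n) R) : Matrix (Fin n) (Fin n) R)) = gram X := by
  ext i j
  simp only [gram, Matrix.of_apply]
  rw [Units.conj_pow, Matrix.trace_mul_cycle, Units.inv_mul, one_mul]

lemma tri_mul {X Y : Matrix (Fin n) (Fin n) R} (hX : X.BlockTriangular id) (hY : Y.BlockTriangular id) (i : Fin n) :
    (X * Y) i i = X i i * Y i i := by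
  rw [Matrix.mul_apply, Finset.sum_eq_single i]
  · intro l _ hl
    rcases lt_or_gt_of_ne hl with h | h
    · rw [hX (show id l < id i from h), zero_mul]
    · rw [hY (show id i < id l from h), mul_zero]
  · simp

lemma tri_pow {X : Matrix (Fin n) (Fin n) R} (hX : X.BlockTriangular id) (m : ℕ) :
    (X ^ m).BlockTriangular id ∧ ∀ i, (X ^ m) i i = X i i ^ m := by
  induction m with
  | zero => exact ⟨by rw [pow_zero]; exact Matrix.blockTriangular_one, fun i => by simp⟩
  | succ m ih =>
    exact ⟨by rw [pow_succ]; exact ih.1.mul hX, fun i => by rw [pow_succ, tri_mul ih.1 hX, ih.2, pow_succ]⟩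

variable {F : Type u} [Field F]

lemma gram_tri {X : Matrix (Fin n) (Fin n) F} (hX : X.BlockTriangular id)
    (hd : Function.Injective fun i => X i i) : (gram X).det ≠ 0 := by
  have h : gram X = (Matrix.vandermonde fun i => X i i)ᵀ * Matrix.vandermonde fun i => X i i := by
    ext i j
    simp only [gram, Matrix.of_apply, Matrix.trace, Matrix.diag_apply]
    rw [Matrix.mul_apply]
    refine Finset.sum_congr rfl fun x _ => ?_
    rw [(tri_pow hX _).2, pow_add]
    simp [Matrix.vandermonde]
  rw [h, Matrix.det_mul, Matrix.det_transpose]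
  exact mul_ne_zero (Matrix.det_vandermonde_ne_zero_iff.mpr hd) (Matrix.det_vandermonde_ne_zero_iff.mpr hd)

/-- a small polynomial in `X` is never nilpotent when the Gram determinant is nonzero -/
lemma gram_indep {X : Matrix (Fin n) (Fin n) F} (hG : (gram X).det ≠ 0) {h : F[X]} (hn : h.natDegree < n)
    (hnil : IsNilpotent (aeval X h)) : h = 0 := by
  by_contra h0
  refine hG (Matrix.exists_mulVec_eq_zero_iff.mp ⟨fun j => h.coeff j, fun hv => h0 ?_, ?_⟩)
  · ext j
    by_cases hj : j < n
    · exact congrFun hv ⟨j, hj⟩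
    · rw [coeff_zero, coeff_eq_zero_of_natDegree_lt (by omega)]
  · funext i
    have hc : Commute (X ^ (i : ℕ)) (aeval X h) := by
      rw [show X ^ (i : ℕ) = aeval X ((Polynomial.X : F[X]) ^ (i : ℕ)) by simp, Commute, SemiconjBy, ← map_mul, ← map_mul,
        mul_comm]
    have h1 : (X ^ (i : ℕ) * aeval X h).trace = 0 :=
      (Matrix.isNilpotent_trace_of_isNilpotent (hc.isNilpotent_mul_left hnil)).eq_zero
    rw [Pi.zero_apply, ← h1, Polynomial.aeval_eq_sum_range' hn, ← Fin.sum_univ_eq_sum_range (fun j => h.coeff j • X ^ j),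
      Finset.mul_sum, Matrix.trace_sum]
    simp only [Matrix.mulVec, dotProduct, gram, Matrix.of_apply]
    refine Finset.sum_congr rfl fun j _ => ?_
    rw [mul_smul_comm, Matrix.trace_smul, ← pow_add, smul_eq_mul, mul_comm]

lemma gram_squarefree {X : Matrix (Fin n) (Fin n) F} (hG : (gram X).det ≠ 0) {f : F[X]} (hf : f.Monic)
    (hd : f.natDegree = n) (h0 : aeval X f = 0) : Squarefree f ∧ X.charpoly = f := by
  refine ⟨?_, ?_⟩
  · intro q hq
    by_contra hu
    obtain ⟨g, hg⟩ := hq
    have hf0 := hf.ne_zero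
    have hq0 : q ≠ 0 := fun h => hf0 (by simp [hg, h])
    have hg0 : g ≠ 0 := fun h => hf0 (by simp [hg, h])
    have hqd : 0 < q.natDegree := by
      refine Nat.pos_of_ne_zero fun hz => hu ?_
      obtain ⟨a, ha⟩ := natDegree_eq_zero.mp hz
      rw [← ha] at hq0 ⊢
      exact isUnit_C.mpr (isUnit_iff_ne_zero.mpr (by simpa using hq0))
    have hlt : (q * g).natDegree < n := by
      have : f.natDegree = q.natDegree + (q * g).natDegree := by
        rw [hg, mul_assoc, natDegree_mul hq0 (mul_ne_zero hq0 hg0)]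
      omega
    refine mul_ne_zero hq0 hg0 (gram_indep hG hlt ⟨2, ?_⟩)
    rw [← map_pow, show (q * g) ^ 2 = f * g by rw [hg]; ring, map_mul, h0, zero_mul]
  · by_contra hne
    have hcd : X.charpoly.natDegree = n := by rw [charpoly_natDegree_eq_dim, Fintype.card_fin]
    refine hne (sub_eq_zero.mp (gram_indep hG ?_ ⟨1, by rw [pow_one, map_sub, Matrix.aeval_self_charpoly, h0, sub_zero]⟩))
    have hnd : X.charpoly - f ≠ 0 := sub_ne_zero.mpr hne
    rw [natDegree_lt_iff_degree_lt hnd]
    have h1 : X.charpoly.degree = n := by rw [degree_eq_natDegree (X.charpoly_monic).ne_zero, hcd]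
    have h2 : f.degree = n := by rw [degree_eq_natDegree hf.ne_zero, hd]
    rw [← h1]
    exact degree_sub_lt (h1.trans h2.symm) (X.charpoly_monic).ne_zero (by rw [X.charpoly_monic.leadingCoeff, hf.leadingCoeff])

/-- triangularisation -/
theorem exists_tri [IsAlgClosed F] : ∀ (n : ℕ) {V : Type u} [AddCommGroup V] [Module F V] [FiniteDimensional F V],
    Module.finrank F V = n → ∀ f : Module.End F V,
      ∃ b : Module.Basis (Fin n) F V, (LinearMap.toMatrix b b f).BlockTriangular id := by
  intro n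
  induction n with
  | zero =>
    intro V _ _ _ hV f
    exact ⟨Module.finBasisOfFinrankEq F V hV, fun i => i.elim0⟩
  | succ n ih =>
    intro V _ _ _ hV f
    haveI : Nontrivial (Module.Dual F V) := Module.nontrivial_of_finrank_pos (R := F)
      (by rw [Subspace.dual_finrank_eq, hV]; omega)
    obtain ⟨t, ht⟩ := Module.End.exists_eigenvalue (LinearMap.dualMap f)
    obtain ⟨φ, hφ, hφ0⟩ := ht.exists_hasEigenvector
    have hφf : ∀ x, φ (f x) = t * φ x := fun x => LinearMap.congr_fun (Module.End.mem_eigenspace_iff.mp hφ) x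
    let H := LinearMap.ker φ
    obtain ⟨w, hw⟩ : ∃ w, φ w ≠ 0 := by
      by_contra! h; exact hφ0 (LinearMap.ext h)
    have hH : Module.finrank F H = n := by
      have := φ.finrank_range_add_finrank_ker
      have hr : Module.finrank F (LinearMap.range φ) = 1 := by
        rw [LinearMap.range_eq_top.mpr (LinearMap.surjective hφ0), finrank_top, Module.finrank_self]
      have hHk : Module.finrank F H = Module.finrank F (LinearMap.ker φ) := rfl
      omega
    obtain ⟨b, hb⟩ := ih hH (f.restrict (p := H) (q := H) fun x hx => by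
      show φ (f x) = 0
      rw [hφf, show φ x = 0 from hx, mul_zero])
    have hli : ∀ (c : F), ∀ x ∈ H, c • w + x = 0 → c = 0 := fun c x hx hc => by
      have := congrArg φ hc
      simpa [show φ x = 0 from hx, hw] using this
    have hsp : ∀ z : V, ∃ c : F, z + c • w ∈ H := fun z => ⟨-(φ z / φ w), by
      show φ _ = 0
      simp [hw]⟩
    let B := Module.Basis.mkFinSnoc b w hli hsp
    have hB : ∀ j : Fin n, B j.castSucc = (b j : V) := fun j => by simp [B]
    refine ⟨B, fun i j hij => ?_⟩
    simp only [id] at hij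
    induction j using Fin.lastCases with
    | last => exact absurd hij (not_lt.mpr (Fin.le_last i))
    | cast j =>
      rw [LinearMap.toMatrix_apply, hB]
      have hexp : f (b j : V) = ∑ l, (b.repr (f.restrict (p := H) (q := H) (fun x hx => by
          show φ (f x) = 0
          rw [hφf, show φ x = 0 from hx, mul_zero]) (b j)) l) • B l.castSucc := by
        conv_rhs => simp only [hB]
        have := congrArg Subtype.val (b.sum_repr (f.restrict (p := H) (q := H) (fun x hx => by
          show φ (f x) = 0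
          rw [hφf, show φ x = 0 from hx, mul_zero]) (b j)))
        rw [Submodule.coe_sum] at this
        exact this.symm
      rw [hexp, map_sum, Finsupp.finsetSum_apply]
      refine Finset.sum_eq_zero fun l _ => ?_
      rw [map_smul, Finsupp.smul_apply, Module.Basis.repr_self, Finsupp.single_apply]
      split_ifs with hl
      · subst hl
        have h0 := hb (show id j < id l from by simpa using hij)
        rw [LinearMap.toMatrix_apply] at h0
        simp [h0]
      · simp

theorem exists_tri_matrix [IsAlgClosed F] (M : Matrix (Fin n) (Fin n) F) :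
    ∃ (P : GL (Fin n) F) (T : Matrix (Fin n) (Fin n) F), T.BlockTriangular id ∧
      M = (P : Matrix (Fin n) (Fin n) F) * T * ((P⁻¹ : GL (Fin n) F) : Matrix (Fin n) (Fin n) F) := by
  obtain ⟨b, hb⟩ := exists_tri n (V := Fin n → F) (Module.finrank_fin_fun F) (Matrix.toLin' M)
  let e := Pi.basisFun F (Fin n)
  let P : GL (Fin n) F := ⟨e.toMatrix b, b.toMatrix e, Module.Basis.toMatrix_mul_toMatrix_flip _ _,
    Module.Basis.toMatrix_mul_toMatrix_flip _ _⟩
  refine ⟨P, _, hb, ?_⟩
  show M = e.toMatrix b * LinearMap.toMatrix b b (Matrix.toLin' M) * b.toMatrix e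
  rw [basis_toMatrix_mul_linearMap_toMatrix_mul_basis_toMatrix]
  simp [e, LinearMap.toMatrix_eq_toMatrix']

lemma conj_comm {M : Type*} [Monoid M] (P D S : Mˣ) (T : M) :
    (P : M) * T * ((P⁻¹ : Mˣ) : M) * ((P * D * P⁻¹ : Mˣ) : M) * ((P * S * P⁻¹ : Mˣ) : M) *
      (((P * D * P⁻¹)⁻¹ : Mˣ) : M) * (((P * S * P⁻¹)⁻¹ : Mˣ) : M) =
      (P : M) * (T * ((D * S * D⁻¹ * S⁻¹ : Mˣ) : M)) * ((P⁻¹ : Mˣ) : M) := by
  have h : P⁻¹ * (P * D * P⁻¹) * (P * S * P⁻¹) * (P * D * P⁻¹)⁻¹ * (P * S * P⁻¹)⁻¹ = D * S * D⁻¹ * S⁻¹ * P⁻¹ := by group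
  have h2 := congrArg (fun u : Mˣ => (P : M) * T * (u : M)) h
  simp only [Units.val_mul, mul_assoc] at h2 ⊢
  exact h2

/-- commutators hit a regular semisimple element in every coset -/
theorem exists_commutator_gram [IsAlgClosed F] (M : Matrix (Fin n) (Fin n) F) (hM : M.det ≠ 0) :
    ∃ U V : GL (Fin n) F, (gram (M * (U : Matrix (Fin n) (Fin n) F) * (V : Matrix (Fin n) (Fin n) F) *
      ((U⁻¹ : GL (Fin n) F) : Matrix (Fin n) (Fin n) F) * ((V⁻¹ : GL (Fin n) F) : Matrix (Fin n) (Fin n) F))).det ≠ 0 := by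
  classical
  rcases Nat.eq_zero_or_pos n with rfl | hn
  · exact ⟨1, 1, by simp⟩
  obtain ⟨P, T, hT, rfl⟩ := exists_tri_matrix M
  have hTd : ∀ i, T i i ≠ 0 := by
    intro i hi
    refine hM ?_
    rw [Matrix.det_mul, Matrix.det_mul, Matrix.det_of_isUpperTriangular hT,
      Finset.prod_eq_zero (f := fun j => T j j) (Finset.mem_univ i) hi, mul_zero, zero_mul]
  let nx : Fin n → Fin n := finRotate n
  -- exponents
  let a : Fin n → ℕ := fun i => if (i : ℕ) + 1 < n then 2 * n - (2 * i + 1) else 2 * n + (n - 1) ^ 2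
  have ha : Function.Injective a := by
    intro i j h
    have := i.isLt
    have := j.isLt
    simp only [a] at h
    apply Fin.ext
    split_ifs at h <;> omega
  let Q : F[X] := ∏ p ∈ (Finset.univ : Finset (Fin n × Fin n)).filter (fun p => p.1 ≠ p.2),
    (C (T p.1 p.1) * Polynomial.X ^ a p.1 - C (T p.2 p.2) * Polynomial.X ^ a p.2)
  have hQ : Q ≠ 0 := Finset.prod_ne_zero_iff.mpr fun p hp h0 => by
    have hne : a p.1 ≠ a p.2 := fun he => (Finset.mem_filter.mp hp).2 (ha he)
    have := congrArg (fun q => q.coeff (a p.1)) h0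
    simp [hne, hTd] at this
  obtain ⟨z, hz⟩ : ∃ z : F, z ∉ (Q * Polynomial.X).roots.toFinset := Infinite.exists_notMem_finset _
  have hz' : (Q * Polynomial.X).eval z ≠ 0 := fun h => hz (by
    simp only [Multiset.mem_toFinset, Polynomial.mem_roots', Polynomial.IsRoot.def]
    exact ⟨mul_ne_zero hQ Polynomial.X_ne_zero, h⟩)
  rw [eval_mul, eval_X] at hz'
  have hz0 : z ≠ 0 := right_ne_zero_of_mul hz'
  have hdist : Function.Injective fun i => T i i * z ^ a i := by
    intro i j h
    by_contra hij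
    refine left_ne_zero_of_mul hz' ?_
    rw [eval_prod]
    exact Finset.prod_eq_zero (i := (i, j)) (Finset.mem_filter.mpr ⟨Finset.mem_univ _, hij⟩) (by
      simp only [eval_sub, eval_mul, eval_C, eval_pow, eval_X]
      exact sub_eq_zero.mpr h)
  -- `λ_i = z ^ (i ^ 2)`
  let lam : Fin n → F := fun i => z ^ ((i : ℕ) ^ 2)
  let D : GL (Fin n) F := ⟨Matrix.diagonal lam, Matrix.diagonal fun i => (lam i)⁻¹,
    by rw [Matrix.diagonal_mul_diagonal, ← Matrix.diagonal_one]; congr 1; funext i; simp [lam, hz0],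
    by rw [Matrix.diagonal_mul_diagonal, ← Matrix.diagonal_one]; congr 1; funext i; simp [lam, hz0]⟩
  let W : Matrix (Fin n) (Fin n) F := Matrix.of fun i j => if nx i = j then 1 else 0
  have hW1 : W * Wᵀ = 1 := by
    ext i j
    simp [W, nx, Matrix.mul_apply, Matrix.one_apply, eq_comm]
  let S : GL (Fin n) F := ⟨W, Wᵀ, hW1, mul_eq_one_comm.mp hW1⟩
  have hcomm : ∀ d : Fin n → F, W * Matrix.diagonal d = Matrix.diagonal (fun i => d (nx i)) * W := by
    intro d
    ext i j
    rw [Matrix.mul_diagonal, Matrix.diagonal_mul]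
    by_cases h : nx i = j
    · subst h; simp [W]
    · simp [W, h]
  refine ⟨P * D * P⁻¹, P * S * P⁻¹, ?_⟩
  have hval : ((D * S * D⁻¹ * S⁻¹ : GL (Fin n) F) : Matrix (Fin n) (Fin n) F) =
      Matrix.diagonal (fun i => lam i * (lam (nx i))⁻¹) := by
    rw [Units.val_mul, Units.val_mul, Units.val_mul]
    show Matrix.diagonal lam * W * Matrix.diagonal (fun i => (lam i)⁻¹) * Wᵀ = _
    rw [mul_assoc (Matrix.diagonal lam) W, hcomm, mul_assoc, mul_assoc, hW1, mul_one, Matrix.diagonal_mul_diagonal]
  have hX := congrArg (fun m => gram m) (conj_comm P D S T)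
  rw [hX, gram_conj, hval]
  -- the ratios are `z ^ a i / z ^ (2 n)`
  have hrat : (fun i => lam i * (lam (nx i))⁻¹) = fun i => z ^ a i * (z ^ (2 * n))⁻¹ := by
    funext i
    have := i.isLt
    have hnx : ((nx i : Fin n) : ℕ) = if (i : ℕ) + 1 < n then (i : ℕ) + 1 else 0 := by
      obtain ⟨m, rfl⟩ : ∃ m, n = m + 1 := ⟨n - 1, by omega⟩
      simp only [nx, coe_finRotate, Fin.ext_iff, Fin.val_last]
      split_ifs <;> omega
    simp only [lam, a, hnx]
    rw [← div_eq_mul_inv, ← div_eq_mul_inv, div_eq_div_iff (pow_ne_zero _ hz0) (pow_ne_zero _ hz0), ← pow_add, ← pow_add]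
    congr 1
    split_ifs with h
    · have : ((i : ℕ) + 1) ^ 2 = (i : ℕ) ^ 2 + (2 * i + 1) := by ring
      omega
    · have : (i : ℕ) = n - 1 := by omega
      rw [this]; omega
  rw [hrat]
  refine gram_tri (hT.mul (Matrix.blockTriangular_diagonal _)) fun i j h => hdist ?_
  simp only [tri_mul hT (Matrix.blockTriangular_diagonal _), Matrix.diagonal_apply_eq, ← mul_assoc] at h
  exact mul_right_cancel₀ (inv_ne_zero (pow_ne_zero _ hz0)) h

end Groth.Agent.RN8
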