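import Groth.Agent.RN8.Range
import Groth.Agent.RN8.Gram
import Groth.Agent.CSA8.Simple

set_option autoImplicit false
universe u v w

open scoped TensorProduct
open Polynomial

namespace Groth.Agent.RN8

variable {k : Type u} [Field k]

local notation "Ω" => AlgebraicClosure k

section Generic

variable {n : ℕ} {R : Type*} [CommRing R]

/-- `det U · det V · Gram(M U V adj U adj V)` -/
noncomputable def commPoly (M U V : Matrix (Fin n) (Fin n) R) : R :=
  (gram (M * U * V * U.adjugate * V.adjugate)).det * (U.det * V.det)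

lemma commPoly_map {S : Type*} [CommRing S] (f : R →+* S) (M U V : Matrix (Fin n) (Fin n) R) :
    f (commPoly M U V) = commPoly (M.map f) (U.map f) (V.map f) := by
  simp only [commPoly, map_mul, RingHom.map_det]
  congr 2
  show (gram (M * U * V * U.adjugate * V.adjugate)).map f = _
  rw [gram_map]
  congr 1
  have hA : ∀ X : Matrix (Fin n) (Fin n) R, X.adjugate.map f = (X.map f).adjugate := fun X => RingHom.map_adjugate f X
  simp only [Matrix.map_mul, hA]

end Generic

variable {D : Type v} [DivisionRing D] [Algebra k D] [FiniteDimensional k D]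

theorem exists_gram [Infinite k] {n : ℕ} (ψ : Spl k D n) (d : D) (hd : (rep ψ d).det ≠ 0) :
    ∃ d' : D, (rep ψ d').det = (rep ψ d).det ∧ (gram (rep ψ d')).det ≠ 0 := by
  classical
  let b := Module.finBasis k D
  let m := Module.finrank k D
  let B : Fin m → Matrix (Fin n) (Fin n) Ω := fun l => rep ψ (b l)
  have hspanB : ∀ X : Matrix (Fin n) (Fin n) Ω, ∃ c : Fin m → Ω, ∑ l, c l • B l = X := by
    intro X
    have h1 : X ∈ Submodule.span Ω (Set.range (rep ψ)) := by
      obtain ⟨x, rfl⟩ := ψ.surjective X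
      exact rep_span ψ x
    refine (Submodule.mem_span_range_iff_exists_fun Ω).mp (Submodule.span_le.mpr ?_ h1)
    rintro _ ⟨a, rfl⟩
    rw [← b.sum_repr a, map_sum]
    refine sum_mem fun l _ => ?_
    rw [map_smul, ← algebraMap_smul Ω]
    exact Submodule.smul_mem _ _ (Submodule.subset_span ⟨l, rfl⟩)
  let G : (Fin m → MvPolynomial (Fin m ⊕ Fin m) Ω) → Matrix (Fin n) (Fin n) (MvPolynomial (Fin m ⊕ Fin m) Ω) :=
    fun x => ∑ l, x l • (B l).map MvPolynomial.C
  let P : MvPolynomial (Fin m ⊕ Fin m) Ω := commPoly ((rep ψ d).map MvPolynomial.C)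
    (G fun l => MvPolynomial.X (Sum.inl l)) (G fun l => MvPolynomial.X (Sum.inr l))
  have heval : ∀ c : Fin m ⊕ Fin m → Ω, MvPolynomial.eval c P =
      commPoly (rep ψ d) (∑ l, c (Sum.inl l) • B l) (∑ l, c (Sum.inr l) • B l) := by
    intro c
    show MvPolynomial.eval c (commPoly _ _ _) = _
    rw [commPoly_map]
    congr 1 <;> ext i j <;> simp [G, Matrix.sum_apply]
  have hP : P ≠ 0 := by
    intro h0
    obtain ⟨U, V, hUV⟩ := exists_commutator_gram (rep ψ d) hd
    obtain ⟨cu, hcu⟩ := hspanB (U : Matrix (Fin n) (Fin n) Ω)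
    obtain ⟨cv, hcv⟩ := hspanB (V : Matrix (Fin n) (Fin n) Ω)
    have h1 := heval (Sum.elim cu cv)
    simp only [Sum.elim_inl, Sum.elim_inr, hcu, hcv, h0, map_zero, commPoly] at h1
    have hU : (U : Matrix (Fin n) (Fin n) Ω).det ≠ 0 := ((Matrix.isUnit_iff_isUnit_det _).mp U.isUnit).ne_zero
    have hV : (V : Matrix (Fin n) (Fin n) Ω).det ≠ 0 := ((Matrix.isUnit_iff_isUnit_det _).mp V.isUnit).ne_zero
    rcases mul_eq_zero.mp h1.symm with h2 | h2
    · refine hUV ?_
      have := gram_det_smul (((U : Matrix (Fin n) (Fin n) Ω).det)⁻¹ * ((V : Matrix (Fin n) (Fin n) Ω).det)⁻¹) _ h2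
      rw [← this]
      congr 2
      rw [Matrix.coe_units_inv, Matrix.coe_units_inv, Matrix.inv_def, Matrix.inv_def, Ring.inverse_eq_inv',
        Matrix.mul_smul, Matrix.mul_smul, Matrix.smul_mul, smul_smul, mul_comm (Inv.inv _) (Inv.inv _)]
    · exact mul_ne_zero hU hV h2
  obtain ⟨c, hc⟩ : ∃ c : Fin m ⊕ Fin m → k, MvPolynomial.eval (fun i => algebraMap k Ω (c i)) P ≠ 0 := by
    by_contra! hall
    refine hP (MvPolynomial.funext_set (fun _ => Set.range (algebraMap k Ω))
      (fun _ => Set.infinite_range_of_injective (algebraMap k Ω).injective) fun z hz => ?_)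
    choose c hc using fun i => hz i (Set.mem_univ i)
    rw [map_zero, show z = fun i => algebraMap k Ω (c i) from funext fun i => (hc i).symm]
    exact hall c
  rw [heval] at hc
  let u : D := ∑ l, c (Sum.inl l) • b l
  let v : D := ∑ l, c (Sum.inr l) • b l
  have hu : ∑ l, algebraMap k Ω (c (Sum.inl l)) • B l = rep ψ u := by simp [u, B, algebraMap_smul]
  have hv : ∑ l, algebraMap k Ω (c (Sum.inr l)) • B l = rep ψ v := by simp [v, B, algebraMap_smul]
  rw [hu, hv, commPoly] at hc
  have hud : (rep ψ u).det ≠ 0 := left_ne_zero_of_mul (right_ne_zero_of_mul hc)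
  have hvd : (rep ψ v).det ≠ 0 := right_ne_zero_of_mul (right_ne_zero_of_mul hc)
  rcases Nat.eq_zero_or_pos n with hn | hn
  · subst hn
    exact ⟨d, rfl, by simp⟩
  haveI : Nonempty (Fin n) := ⟨⟨0, hn⟩⟩
  have hu0 : u ≠ 0 := fun h => hud (by rw [h, map_zero, Matrix.det_zero])
  have hv0 : v ≠ 0 := fun h => hvd (by rw [h, map_zero, Matrix.det_zero])
  have hadj : ∀ z : D, z ≠ 0 → (rep ψ z).adjugate = (rep ψ z).det • rep ψ z⁻¹ ∧ (rep ψ z).det * (rep ψ z⁻¹).det = 1 := by
    intro z hz
    have h1 : rep ψ z * rep ψ z⁻¹ = 1 := by rw [← map_mul, mul_inv_cancel₀ hz, map_one]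
    refine ⟨?_, by rw [← Matrix.det_mul, h1, Matrix.det_one]⟩
    calc (rep ψ z).adjugate = (rep ψ z).adjugate * (rep ψ z * rep ψ z⁻¹) := by rw [h1, mul_one]
      _ = _ := by rw [← mul_assoc, Matrix.adjugate_mul, Matrix.smul_mul, one_mul]
  refine ⟨d * u * v * u⁻¹ * v⁻¹, ?_, fun h0 => left_ne_zero_of_mul hc ?_⟩
  · have e1 := (hadj u hu0).2
    have e2 := (hadj v hv0).2
    simp only [map_mul, Matrix.det_mul]
    linear_combination ((rep ψ d).det * (rep ψ v).det * (rep ψ v⁻¹).det) * e1 + (rep ψ d).det * e2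
  · rw [(hadj u hu0).1, (hadj v hv0).1, Matrix.mul_smul, Matrix.mul_smul, Matrix.smul_mul, smul_smul]
    refine gram_det_smul _ _ ?_
    simpa only [map_mul] using h0

lemma finite_or_deg_one {n : ℕ} (ψ : Spl k D n) [Algebra.IsCentral k D] : Infinite k ∨ n ≤ 1 := by
  rcases finite_or_infinite k with hk | hk
  · right
    haveI : Finite D := Module.finite_of_finite k
    letI F : Field D := littleWedderburn D
    have hcomm : ∀ a b : D, a * b = b * a := fun a b => F.mul_comm a b
    have h1 : Module.finrank k D = 1 := by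
      have htop : Subalgebra.center k D = ⊤ := eq_top_iff.mpr fun a _ => Subalgebra.mem_center_iff.mpr fun b => hcomm b a
      rw [← Subalgebra.bot_eq_top_iff_finrank_eq_one, ← htop, Algebra.IsCentral.center_eq_bot]
    rw [finrank_eq ψ] at h1
    exact ((Nat.pow_eq_one.mp h1).resolve_right two_ne_zero).le
  · exact Or.inl hk

theorem exists_gram' [Algebra.IsCentral k D] {n : ℕ} (ψ : Spl k D n) (d : D) (hd : (rep ψ d).det ≠ 0) :
    ∃ d' : D, (rep ψ d').det = (rep ψ d).det ∧ (gram (rep ψ d')).det ≠ 0 := by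
  rcases finite_or_deg_one ψ with h | h
  · exact exists_gram ψ d hd
  · refine ⟨d, rfl, ?_⟩
    rcases Nat.le_one_iff_eq_zero_or_eq_one.mp h with rfl | rfl
    · simp
    · simp [gram]

theorem exists_separable_field [Algebra.IsCentral k D] {n : ℕ} (ψ : Spl k D n) (d : D) (hd : (rep ψ d).det ≠ 0) :
    ∃ (p : k[X]) (_ : Fact (Irreducible p)) (_ : AdjoinRoot p →ₐ[k] D),
      Algebra.IsSeparable k (AdjoinRoot p) ∧ Module.finrank k (AdjoinRoot p) = n ∧ FiniteDimensional k (AdjoinRoot p) ∧
        algebraMap k Ω (Algebra.norm k (AdjoinRoot.root p)) = (rep ψ d).det := by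
  classical
  obtain ⟨z, hz, hG⟩ := exists_gram' ψ d hd
  have hint : IsIntegral k z := Algebra.IsIntegral.isIntegral z
  let p := minpoly k z
  haveI hirr : Fact (Irreducible p) := ⟨minpoly.irreducible hint⟩
  have hp0 : p.Monic := minpoly.monic hint
  let ι : AdjoinRoot p →ₐ[k] D := Ideal.Quotient.liftₐ _ (aeval z) (fun a ha => by
    obtain ⟨q, rfl⟩ := Ideal.mem_span_singleton'.mp ha
    rw [map_mul, minpoly.aeval, mul_zero])
  haveI : FiniteDimensional k (AdjoinRoot p) := hp0.finite_adjoinRoot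
  have hdeg : Module.finrank k (AdjoinRoot p) = p.natDegree := by
    rw [(AdjoinRoot.powerBasis hp0.ne_zero).finrank, AdjoinRoot.powerBasis_dim]
  have hle : p.natDegree ≤ n := by
    haveI : IsSimpleRing ι.range := IsSimpleRing.of_ringEquiv (AlgEquiv.ofInjectiveField ι).toRingEquiv inferInstance
    obtain ⟨-, hcd⟩ := CSA8.centralizer (k := k) ι.range
    have hsub : ι.range ≤ Subalgebra.centralizer k (ι.range : Set D) := by
      rintro _ ⟨a, rfl⟩
      rw [Subalgebra.mem_centralizer_iff]
      rintro _ ⟨b, rfl⟩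
      show ι b * ι a = ι a * ι b
      rw [← map_mul, ← map_mul, mul_comm]
    have h1 : Module.finrank k ι.range ≤ Module.finrank k (Subalgebra.centralizer k (ι.range : Set D)) :=
      LinearMap.finrank_le_finrank_of_injective (f := (Subalgebra.inclusion hsub).toLinearMap)
        (Subalgebra.inclusion_injective hsub)
    rw [← (AlgEquiv.ofInjectiveField ι).toLinearEquiv.finrank_eq, hdeg] at h1 hcd
    rw [finrank_eq ψ] at hcd
    by_contra! hlt
    nlinarith
  have hann : aeval (rep ψ z) (p.map (algebraMap k Ω)) = 0 := by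
    rw [aeval_map_algebraMap, aeval_algHom_apply, minpoly.aeval, map_zero]
  have hmon := hp0.map (algebraMap k Ω)
  have heq : p.natDegree = n := by
    refine le_antisymm hle (Nat.le_of_not_lt fun hlt => hmon.ne_zero ?_)
    exact gram_indep hG (by rwa [natDegree_map]) ⟨1, by rw [pow_one, hann]⟩
  obtain ⟨hsq, hch⟩ := gram_squarefree hG hmon (by rw [natDegree_map, heq]) hann
  have hsep : p.Separable := (separable_map _).mp (PerfectField.separable_iff_squarefree.mpr hsq)
  refine ⟨p, hirr, ι, ?_, hdeg.trans heq, inferInstance, ?_⟩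
  · have hroot : IsSeparable k (AdjoinRoot.root p) := by
      show (minpoly k (AdjoinRoot.root p)).Separable
      rw [AdjoinRoot.minpoly_root hp0.ne_zero, hp0.leadingCoeff, inv_one, map_one, mul_one]
      exact hsep
    have h2 := (IntermediateField.isSeparable_adjoin_simple_iff_isSeparable k (AdjoinRoot p)).mpr hroot
    have htop : IntermediateField.adjoin k ({AdjoinRoot.root p} : Set (AdjoinRoot p)) = ⊤ :=
      IntermediateField.adjoin_eq_top_of_algebra k _ AdjoinRoot.adjoinRoot_eq_top
    rw [htop] at h2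
    exact AlgEquiv.Algebra.isSeparable IntermediateField.topEquiv
  · rw [← hz, Matrix.det_eq_sign_charpoly_coeff, hch, Fintype.card_fin, coeff_map]
    have hnorm := Algebra.PowerBasis.norm_gen_eq_coeff_zero_minpoly (AdjoinRoot.powerBasis hp0.ne_zero)
    rw [AdjoinRoot.powerBasis_gen, AdjoinRoot.powerBasis_dim, AdjoinRoot.minpoly_root hp0.ne_zero, hp0.leadingCoeff, inv_one,
      map_one, mul_one, heq] at hnorm
    rw [hnorm, map_mul, map_pow, map_neg, map_one]

end Groth.Agent.RN8
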