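import Groth.Agent.RN8.BlockDet

set_option autoImplicit false
universe u v w

open scoped TensorProduct

namespace Groth.Agent.RN8

variable {k : Type u} [Field k]

local notation "Ω" => AlgebraicClosure k

variable {A : Type v} [Ring A] [Algebra k A]

/-- the splitting of `M_r(A)` induced by one of `A` -/
theorem spl_matrix {n : ℕ} (ψ : Spl k A n) (r : ℕ) :
    ∃ Ψ : Spl k (Matrix (Fin r) (Fin r) A) (r * n), ∀ X,
      (rep Ψ X).det = (Matrix.comp (Fin r) (Fin r) (Fin n) (Fin n) Ω (X.map (rep ψ))).det := by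
  refine ⟨(CSA8.baseMatrix Ω A (Fin r)).trans (ψ.mapMatrix.trans ((Matrix.compAlgEquiv (Fin r) (Fin n) Ω Ω).trans
    (Matrix.reindexAlgEquiv Ω Ω finProdFinEquiv))), fun X => ?_⟩
  have h : CSA8.baseMatrix Ω A (Fin r) (1 ⊗ₜ[k] X) = X.map (fun a => (1 : Ω) ⊗ₜ[k] a) := by
    simp only [CSA8.baseMatrix]
    show (matrixEquivTensor (Fin r) k (Ω ⊗[k] A)).symm
      ((Algebra.TensorProduct.assoc k k k Ω A (Matrix (Fin r) (Fin r) k)).symm
        ((Algebra.TensorProduct.congr AlgEquiv.refl (matrixEquivTensor (Fin r) k A)) ((1 : Ω) ⊗ₜ[k] X))) = _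
    rw [Algebra.TensorProduct.congr_apply, Algebra.TensorProduct.map_tmul]
    generalize hY : (matrixEquivTensor (Fin r) k A) X = Y
    have hX : X = (matrixEquivTensor (Fin r) k A).symm Y := by rw [← hY, AlgEquiv.symm_apply_apply]
    subst hX
    simp only [AlgEquiv.coe_toAlgHom, AlgEquiv.coe_refl, id_eq, AlgEquiv.apply_symm_apply]
    clear hY
    induction Y using TensorProduct.induction_on with
    | zero => ext; simp
    | tmul a M =>
      rw [Algebra.TensorProduct.assoc_symm_tmul, matrixEquivTensor_apply_symm, matrixEquivTensor_apply_symm]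
      ext i j
      simp [TensorProduct.smul_tmul', Algebra.TensorProduct.algebraMap_apply, TensorProduct.tmul_smul,
        Algebra.smul_def, ← Algebra.commutes]
      rw [← Algebra.smul_def, TensorProduct.tmul_smul, TensorProduct.smul_tmul', Algebra.smul_def, mul_one]
    | add p q hp hq =>
      rw [TensorProduct.tmul_add, map_add, map_add, hp, hq, map_add]
      ext i j
      simp [TensorProduct.tmul_add]
  rw [rep_apply]
  simp only [AlgEquiv.trans_apply, h]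
  rw [Matrix.reindexAlgEquiv_apply, Matrix.det_reindex_self]
  rfl

/-- nonzero values of the reduced norm, over the algebraic closure -/
def RS {n : ℕ} (ψ : Spl k A n) : Set Ω := {x | x ≠ 0 ∧ ∃ a, (rep ψ a).det = x}

theorem RS_iso [Nontrivial A] [FiniteDimensional k A] {B : Type w} [Ring B] [Algebra k B] (e : A ≃ₐ[k] B)
    {n m : ℕ} (ψ : Spl k A n) (ψ' : Spl k B m) : RS ψ = RS ψ' := by
  obtain ⟨rfl, h⟩ := spl_unique ψ ((Algebra.TensorProduct.congr AlgEquiv.refl e).trans ψ')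
  ext x
  refine and_congr Iff.rfl ⟨?_, ?_⟩
  · rintro ⟨a, ha⟩
    refine ⟨e a, ?_⟩
    rw [← ha, (h a).1]
    simp [rep_apply]
  · rintro ⟨b, hb⟩
    refine ⟨e.symm b, ?_⟩
    rw [← hb, (h _).1]
    simp [rep_apply]

theorem RS_division {D : Type v} [DivisionRing D] [Algebra k D] [FiniteDimensional k D] {r : ℕ} (hr : r ≠ 0)
    {n m : ℕ} (ψ : Spl k D n) (Ψ : Spl k (Matrix (Fin r) (Fin r) D) m) : RS Ψ = RS ψ := by
  obtain ⟨s, rfl⟩ : ∃ s, r = s + 1 := ⟨r - 1, by omega⟩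
  obtain ⟨Ψ', hΨ'⟩ := spl_matrix ψ (s + 1)
  obtain ⟨rfl, h⟩ := spl_unique Ψ Ψ'
  let ρ : D →+* Matrix (Fin n) (Fin n) Ω := (rep ψ).toRingHom
  have hX : ∀ X, (rep Ψ X).det = (blk ρ (s + 1) X).det := fun X => (h X).1.trans (hΨ' X)
  ext x
  constructor
  · rintro ⟨hx, X, rfl⟩
    refine ⟨hx, ?_⟩
    rw [hX] at hx ⊢
    rcases blk_det_cases ρ (s + 1) X with h0 | ⟨d, -, hd⟩
    · exact absurd h0 hx
    · exact ⟨d, hd.symm⟩
  · rintro ⟨hx, d, rfl⟩
    obtain ⟨X, hXd⟩ := blk_det_range ρ s d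
    exact ⟨hx, X, (hX X).trans hXd⟩

theorem RS_matrix [Algebra.IsCentral k A] [IsSimpleRing A] [FiniteDimensional k A] {r : ℕ} (hr : r ≠ 0)
    {n m : ℕ} (ψ : Spl k A n) (Ψ : Spl k (Matrix (Fin r) (Fin r) A) m) : RS Ψ = RS ψ := by
  have : IsArtinianRing A := .of_finite k A
  obtain ⟨s, hs, D, _, _, _, ⟨e⟩⟩ := IsSimpleRing.exists_algEquiv_matrix_divisionRing_finite k A
  have hs0 : 0 < s := Nat.pos_of_ne_zero hs.out
  haveI : Nonempty (Fin s) := ⟨⟨0, hs0⟩⟩
  haveI : Nonempty (Fin r) := ⟨⟨0, Nat.pos_of_ne_zero hr⟩⟩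
  haveI : Algebra.IsCentral k D := ⟨fun z hz => by
    have hmem : Matrix.scalar (Fin s) z ∈ Subalgebra.center k (Matrix (Fin s) (Fin s) D) :=
      Subalgebra.mem_center_iff.2 fun M => by
        ext i j; simp [Matrix.mul_diagonal, Matrix.diagonal_mul, (Subalgebra.mem_center_iff.1 hz (M i j))]
    have hmem' : e.symm (Matrix.scalar (Fin s) z) ∈ Subalgebra.center k A := Subalgebra.mem_center_iff.2 fun a => by
      refine e.injective ?_
      rw [map_mul, map_mul, e.apply_symm_apply]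
      exact Subalgebra.mem_center_iff.1 hmem (e a)
    rw [Algebra.IsCentral.center_eq_bot, Algebra.mem_bot] at hmem'
    obtain ⟨c, hc⟩ := hmem'
    have h := congrArg e hc
    rw [e.commutes, e.apply_symm_apply] at h
    refine Algebra.mem_bot.2 ⟨c, ?_⟩
    simpa [Matrix.algebraMap_matrix_apply] using congrFun (congrFun h ⟨0, hs0⟩) ⟨0, hs0⟩⟩
  obtain ⟨d, ⟨δ⟩⟩ := spl_exists (k := k) (A := D)
  obtain ⟨Δ, -⟩ := spl_matrix δ s
  obtain ⟨Δ', -⟩ := spl_matrix δ (r * s)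
  rw [RS_iso e ψ Δ, RS_division hs.out δ Δ, ← RS_division (Nat.mul_ne_zero hr hs.out) δ Δ']
  exact RS_iso ((e.mapMatrix).trans ((Matrix.compAlgEquiv (Fin r) (Fin s) D k).trans
    (Matrix.reindexAlgEquiv k D finProdFinEquiv))) Ψ Δ'

lemma mem_range_iff [Algebra.IsCentral k A] [IsSimpleRing A] [FiniteDimensional k A]
    {N : A →* k} (hN : CSAGal.IsRedNorm k A N) {n : ℕ} (ψ : Spl k A n) (c : kˣ) :
    c ∈ (Units.map N).range ↔ algebraMap k Ω (c : k) ∈ RS ψ := by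
  constructor
  · rintro ⟨a, rfl⟩
    exact ⟨(_root_.map_ne_zero _).mpr (Units.ne_zero _), a, (redNorm_eq hN ψ a).symm⟩
  · rintro ⟨-, a, ha⟩
    rw [← redNorm_eq hN ψ] at ha
    have hu : IsUnit a := (isUnit_iff N hN a).mpr (by rw [(algebraMap k Ω).injective ha]; exact c.ne_zero)
    exact ⟨hu.unit, Units.ext ((algebraMap k Ω).injective ha)⟩

theorem range_eq_of_matrix_algEquiv [Algebra.IsCentral k A] [IsSimpleRing A] [FiniteDimensional k A]
    (B : Type w) [Ring B] [Algebra k B] [Algebra.IsCentral k B] [IsSimpleRing B] [FiniteDimensional k B]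
    (n m : ℕ) (hn : n ≠ 0) (hm : m ≠ 0) (e : Matrix (Fin n) (Fin n) A ≃ₐ[k] Matrix (Fin m) (Fin m) B)
    (NA : A →* k) (hNA : CSAGal.IsRedNorm k A NA) (NB : B →* k) (hNB : CSAGal.IsRedNorm k B NB) :
    (Units.map NA).range = (Units.map NB).range := by
  haveI : Nonempty (Fin n) := ⟨⟨0, Nat.pos_of_ne_zero hn⟩⟩
  haveI : Nonempty (Fin m) := ⟨⟨0, Nat.pos_of_ne_zero hm⟩⟩
  obtain ⟨a, ⟨ψ⟩⟩ := spl_exists (k := k) (A := A)
  obtain ⟨b, ⟨φ⟩⟩ := spl_exists (k := k) (A := B)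
  obtain ⟨Ψ, -⟩ := spl_matrix ψ n
  obtain ⟨Φ, -⟩ := spl_matrix φ m
  ext c
  rw [mem_range_iff hNA ψ, mem_range_iff hNB φ, ← RS_matrix hn ψ Ψ, ← RS_matrix hm φ Φ, RS_iso e Ψ Φ]

end Groth.Agent.RN8
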