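import Mathlib
import Groth.Prelude.Def_GSzCSA
import Groth.Agent.CSA8.Split

set_option autoImplicit false
universe u v w

open scoped TensorProduct Kronecker

namespace Groth.Agent.RN8

variable {k : Type u} [Field k]

local notation "Ω" => AlgebraicClosure k

/-- a splitting over the algebraic closure -/
abbrev Spl (k : Type u) [Field k] (A : Type v) [Ring A] [Algebra k A] (n : ℕ) :=
  AlgebraicClosure k ⊗[k] A ≃ₐ[AlgebraicClosure k] Matrix (Fin n) (Fin n) (AlgebraicClosure k)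

variable {A : Type v} [Ring A] [Algebra k A]

/-- the matrix of an element in a splitting -/
noncomputable def rep {n : ℕ} (ψ : Spl k A n) : A →ₐ[k] Matrix (Fin n) (Fin n) Ω :=
  (ψ.restrictScalars k).toAlgHom.comp Algebra.TensorProduct.includeRight

lemma rep_apply {n : ℕ} (ψ : Spl k A n) (a : A) : rep ψ a = ψ (1 ⊗ₜ a) := rfl

lemma rep_span {n : ℕ} (ψ : Spl k A n) (x : Ω ⊗[k] A) :
    ψ x ∈ Submodule.span Ω (Set.range (rep ψ)) := by
  induction x using TensorProduct.induction_on with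
  | zero => simp
  | tmul c a =>
    rw [show c ⊗ₜ[k] a = c • ((1 : Ω) ⊗ₜ[k] a) by rw [TensorProduct.smul_tmul', smul_eq_mul, mul_one],
      map_smul]
    exact Submodule.smul_mem _ _ (Submodule.subset_span ⟨a, rfl⟩)
  | add p q hp hq => rw [map_add]; exact add_mem hp hq

lemma finrank_eq {n : ℕ} (ψ : Spl k A n) : Module.finrank k A = n ^ 2 := by
  have := ψ.toLinearEquiv.finrank_eq
  rwa [Module.finrank_baseChange, Module.finrank_matrix, Fintype.card_fin, Module.finrank_self, mul_one,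
    ← pow_two] at this

lemma spl_unique [Nontrivial A] [FiniteDimensional k A] {n m : ℕ} (ψ : Spl k A n) (ψ' : Spl k A m) :
    n = m ∧ ∀ a, (rep ψ a).det = (rep ψ' a).det ∧ (rep ψ a).trace = (rep ψ' a).trace := by
  have h := (finrank_eq ψ).symm.trans (finrank_eq ψ')
  obtain rfl : n = m := Nat.pow_left_injective two_ne_zero h
  have hn : 0 < n := by
    have hpos : 0 < Module.finrank k A := Module.finrank_pos
    rw [finrank_eq ψ] at hpos
    exact Nat.pos_of_ne_zero fun h => by simp [h] at hpos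
  haveI : Nonempty (Fin n) := ⟨⟨0, hn⟩⟩
  refine ⟨rfl, fun a => ?_⟩
  obtain ⟨u, hu⟩ := CSA8.skolem_noether (k := Ω) (A := Matrix (Fin n) (Fin n) Ω)
    (ψ.symm.trans ψ').toAlgHom (AlgHom.id Ω _)
  have h1 : rep ψ' a = (u : Matrix (Fin n) (Fin n) Ω) * rep ψ a * (u⁻¹ : _ˣ) := by
    have := hu (rep ψ a)
    simpa [rep_apply] using this
  rw [h1, Matrix.det_units_conj, Matrix.trace_units_conj]
  exact ⟨rfl, rfl⟩

/-- push an isomorphism with a matrix algebra along an embedding of fields -/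
theorem iso_map [FiniteDimensional k A] {K : Type w} [Field K] [Algebra k K] {F : Type*} [Field F] [Algebra k F]
    (ι : K →ₐ[k] F) {n : ℕ}
    (φ : K ⊗[k] A ≃ₐ[K] Matrix (Fin n) (Fin n) K) :
    ∃ ψ : F ⊗[k] A ≃ₐ[F] Matrix (Fin n) (Fin n) F, ∀ a, ψ (1 ⊗ₜ a) = (φ (1 ⊗ₜ a)).map ι := by
  classical
  let f : A →ₐ[k] Matrix (Fin n) (Fin n) F :=
    ι.mapMatrix.comp ((φ.restrictScalars k).toAlgHom.comp Algebra.TensorProduct.includeRight)
  let Fh : F ⊗[k] A →ₐ[F] Matrix (Fin n) (Fin n) F :=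
    Algebra.TensorProduct.lift (Algebra.ofId F _) f (fun c a => Algebra.commutes c (f a))
  have hF : ∀ x : K ⊗[k] A, (φ x).map ι ∈ LinearMap.range Fh.toLinearMap := fun x => by
    induction x using TensorProduct.induction_on with
    | zero => exact ⟨0, by simp⟩
    | tmul c a =>
      refine ⟨ι c ⊗ₜ a, ?_⟩
      show Fh (ι c ⊗ₜ a) = _
      rw [Algebra.TensorProduct.lift_tmul, show c ⊗ₜ[k] a = c • ((1 : K) ⊗ₜ[k] a) by
        rw [TensorProduct.smul_tmul', smul_eq_mul, mul_one], map_smul]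
      show algebraMap F (Matrix (Fin n) (Fin n) F) (ι c) * (φ (1 ⊗ₜ a)).map ι = _
      rw [← Algebra.smul_def]
      ext i j
      simp
    | add p q hp hq =>
      rw [map_add, Matrix.map_add _ (map_add ι)]; exact add_mem hp hq
  have hsurj : Function.Surjective Fh := by
    have htop : LinearMap.range Fh.toLinearMap = ⊤ := by
      rw [eq_top_iff, ← (Matrix.stdBasis F (Fin n) (Fin n)).span_eq, Submodule.span_le]
      rintro _ ⟨⟨i, j⟩, rfl⟩
      have := hF (φ.symm (Matrix.single i j 1))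
      rw [φ.apply_symm_apply] at this
      simpa [Matrix.stdBasis_eq_single] using this
    exact LinearMap.range_eq_top.mp htop
  have hfr : Module.finrank F (F ⊗[k] A) = Module.finrank F (Matrix (Fin n) (Fin n) F) := by
    rw [Module.finrank_baseChange, ← Module.finrank_baseChange (R := K) (S := k) (M' := A),
      φ.toLinearEquiv.finrank_eq]
    simp [Module.finrank_matrix]
  have hbij : Function.Bijective Fh :=
    ⟨(LinearMap.injective_iff_surjective_of_finrank_eq_finrank hfr).mpr hsurj, hsurj⟩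
  refine ⟨AlgEquiv.ofBijective Fh hbij, fun a => ?_⟩
  show Fh (1 ⊗ₜ a) = _
  rw [Algebra.TensorProduct.lift_tmul, map_one, one_mul]
  rfl

/-- a splitting over a field gives a splitting over the algebraic closure -/
theorem spl_of_iso [FiniteDimensional k A] {K : Type w} [Field K] [Algebra k K] (ι : K →ₐ[k] Ω) {n : ℕ}
    (φ : K ⊗[k] A ≃ₐ[K] Matrix (Fin n) (Fin n) K) :
    ∃ ψ : Spl k A n, ∀ a, rep ψ a = (φ (1 ⊗ₜ a)).map ι := iso_map ι φ

theorem spl_exists [Algebra.IsCentral k A] [IsSimpleRing A] [FiniteDimensional k A] :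
    ∃ n, Nonempty (Spl k A n) := by
  obtain ⟨k', _, _, hfd, -, m, -, ⟨φ⟩⟩ := CSA8.exists_splitting (k := k) A
  exact ⟨m, ⟨(spl_of_iso (IsAlgClosed.lift : k' →ₐ[k] Ω) φ).choose⟩⟩

theorem redNorm_eq [Nontrivial A] [FiniteDimensional k A] {N : A →* k} (hN : CSAGal.IsRedNorm k A N) {n : ℕ}
    (ψ : Spl k A n) (a : A) : algebraMap k Ω (N a) = (rep ψ a).det := by
  obtain ⟨K, _, _, _, m, φ, hφ⟩ := hN
  let ι : K →ₐ[k] Ω := IsAlgClosed.lift
  obtain ⟨ψ', hψ'⟩ := spl_of_iso ι φ
  obtain ⟨rfl, h⟩ := spl_unique ψ' ψ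
  rw [← (h a).1, hψ', ← ι.commutes, hφ]
  exact (ι : K →+* Ω).map_det _

theorem redTrace_eq [Nontrivial A] [FiniteDimensional k A] {T : A →+ k} (hT : CSAGal.IsRedTrace k A T) {n : ℕ}
    (ψ : Spl k A n) (a : A) : algebraMap k Ω (T a) = (rep ψ a).trace := by
  obtain ⟨K, _, _, _, m, φ, hφ⟩ := hT
  let ι : K →ₐ[k] Ω := IsAlgClosed.lift
  obtain ⟨ψ', hψ'⟩ := spl_of_iso ι φ
  obtain ⟨rfl, h⟩ := spl_unique ψ' ψ
  rw [← (h a).2, hψ', ← ι.commutes, hφ, Matrix.trace, map_sum]
  rfl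

theorem isUnit_iff [Algebra.IsCentral k A] [IsSimpleRing A] [FiniteDimensional k A]
    (N : A →* k) (hN : CSAGal.IsRedNorm k A N) (a : A) : IsUnit a ↔ N a ≠ 0 := by
  obtain ⟨n, ⟨ψ⟩⟩ := spl_exists (k := k) (A := A)
  refine ⟨fun h => (h.map N).ne_zero, fun h => ?_⟩
  have hdet : (rep ψ a).det ≠ 0 := by
    rw [← redNorm_eq hN ψ]; exact (_root_.map_ne_zero _).mpr h
  have hu : IsUnit ((1 : Ω) ⊗ₜ[k] a) := by
    have := ((Matrix.isUnit_iff_isUnit_det (rep ψ a)).mpr (isUnit_iff_ne_zero.mpr hdet)).map ψ.symm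
    simpa [rep_apply] using this
  have hinj : Function.Injective (LinearMap.mulLeft k a) := fun x y hxy => by
    have h1 : ((1 : Ω) ⊗ₜ[k] a) * (1 ⊗ₜ x) = (1 ⊗ₜ a) * (1 ⊗ₜ y) := by
      simp only [Algebra.TensorProduct.tmul_mul_tmul, mul_one]
      exact congrArg ((1 : Ω) ⊗ₜ[k] ·) hxy
    exact Algebra.TensorProduct.includeRight_injective (algebraMap k Ω).injective (hu.mul_left_cancel h1)
  obtain ⟨b, hb⟩ := (LinearMap.injective_iff_surjective.mp hinj) 1
  have hb' : a * b = 1 := hb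
  exact ⟨⟨a, b, hb', hinj (by show a * (b * a) = a * 1; rw [← mul_assoc, hb', one_mul, mul_one])⟩, rfl⟩

lemma mulLeft_toMatrix {F : Type w} [Field F] {n : ℕ} (M : Matrix (Fin n) (Fin n) F) :
    LinearMap.toMatrix (Matrix.stdBasis F (Fin n) (Fin n)) (Matrix.stdBasis F (Fin n) (Fin n))
      (LinearMap.mulLeft F M) = M ⊗ₖ (1 : Matrix (Fin n) (Fin n) F) := by
  classical
  ext ⟨i, j⟩ ⟨l, m⟩
  rw [LinearMap.toMatrix_apply, Matrix.stdBasis_eq_single, LinearMap.mulLeft_apply]
  have : (Matrix.stdBasis F (Fin n) (Fin n)).repr (M * Matrix.single l m 1) (i, j) =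
      (M * (Matrix.single l m 1 : Matrix (Fin n) (Fin n) F)) i j := by
    conv_rhs => rw [← (Matrix.stdBasis F (Fin n) (Fin n)).sum_repr (M * Matrix.single l m 1)]
    simp [Matrix.stdBasis_eq_single, Matrix.sum_apply, Matrix.single_apply, Fintype.sum_prod_type,
      ite_and]
  rw [this, Matrix.kronecker_apply, Matrix.one_apply]
  by_cases h : m = j
  · subst h; simp
  · rw [Matrix.mul_single_apply_of_ne]
    · simp [Ne.symm h]
    · exact Ne.symm h

/-- base change of left multiplication through a splitting -/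
lemma toMatrix_mulLeft [FiniteDimensional k A] {n : ℕ} (ψ : Spl k A n) (a : A) :
    ∃ (b : Module.Basis (Fin n × Fin n) Ω (Ω ⊗[k] A)),
      LinearMap.toMatrix b b ((LinearMap.mulLeft k a).baseChange Ω) = rep ψ a ⊗ₖ (1 : Matrix (Fin n) (Fin n) Ω) := by
  refine ⟨(Matrix.stdBasis Ω (Fin n) (Fin n)).map ψ.symm.toLinearEquiv, ?_⟩
  rw [← mulLeft_toMatrix]
  ext p q
  rw [LinearMap.toMatrix_apply, LinearMap.toMatrix_apply, Module.Basis.map_apply, Module.Basis.map_repr,
    LinearEquiv.trans_apply]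
  congr 2
  generalize (Matrix.stdBasis Ω (Fin n) (Fin n)) q = E
  obtain ⟨x, rfl⟩ := ψ.surjective E
  show ψ.symm.toLinearEquiv.symm ((LinearMap.mulLeft k a).baseChange Ω (ψ.symm (ψ x))) = rep ψ a * ψ x
  rw [ψ.symm_apply_apply]
  show ψ ((LinearMap.mulLeft k a).baseChange Ω x) = _
  rw [rep_apply, ← map_mul]
  congr 1
  induction x using TensorProduct.induction_on with
  | zero => simp
  | tmul c y => simp
  | add p q hp hq => simp [map_add, hp, hq, mul_add]

theorem algebraNorm_eq [Algebra.IsCentral k A] [IsSimpleRing A] [FiniteDimensional k A]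
    (n : ℕ) (hn : Module.finrank k A = n ^ 2)
    (N : A →* k) (hN : CSAGal.IsRedNorm k A N) (T : A →+ k) (hT : CSAGal.IsRedTrace k A T) (a : A) :
    Algebra.norm k a = N a ^ n ∧ LinearMap.trace k A (LinearMap.mulLeft k a) = n • T a := by
  obtain ⟨m, ⟨ψ⟩⟩ := spl_exists (k := k) (A := A)
  obtain rfl : n = m := Nat.pow_left_injective two_ne_zero (hn.symm.trans (finrank_eq ψ))
  obtain ⟨b, hb⟩ := toMatrix_mulLeft ψ a
  refine ⟨(algebraMap k Ω).injective ?_, (algebraMap k Ω).injective ?_⟩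
  · have h1 : Algebra.norm k a = LinearMap.det (LinearMap.mulLeft k a) := by
      rw [Algebra.norm_apply]; rfl
    rw [h1, map_pow, redNorm_eq hN ψ, ← LinearMap.det_baseChange, ← LinearMap.det_toMatrix b, hb,
      Matrix.det_kronecker, Matrix.det_one, one_pow, mul_one, Fintype.card_fin]
  · rw [map_nsmul, redTrace_eq hT ψ, ← LinearMap.trace_baseChange, LinearMap.trace_eq_matrix_trace Ω b, hb,
      Matrix.trace_kronecker, Matrix.trace_one, Fintype.card_fin, nsmul_eq_mul, mul_comm]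

end Groth.Agent.RN8
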