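import Groth.Agent.RN8.Basic

set_option autoImplicit false
universe u v w

open Matrix

namespace Groth.Agent.RN8

variable {F : Type u} [CommRing F] {D : Type v} [DivisionRing D] {n : ℕ}

/-- a matrix over `D` as a matrix over `F`, blockwise -/
noncomputable def blk (ρ : D →+* Matrix (Fin n) (Fin n) F) (r : ℕ) :
    Matrix (Fin r) (Fin r) D →+* Matrix (Fin r × Fin n) (Fin r × Fin n) F :=
  (Matrix.compRingEquiv (Fin r) (Fin n) F).toRingHom.comp ρ.mapMatrix

lemma blk_apply (ρ : D →+* Matrix (Fin n) (Fin n) F) {r : ℕ} (X : Matrix (Fin r) (Fin r) D)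
    (p q : Fin r × Fin n) : blk ρ r X p q = ρ (X p.1 q.1) p.2 q.2 := rfl

/-- split off the first block -/
def splitEquiv (r n : ℕ) : Fin (r + 1) × Fin n ≃ Fin n ⊕ (Fin r × Fin n) where
  toFun p := if h : p.1 = 0 then Sum.inl p.2 else Sum.inr (p.1.pred h, p.2)
  invFun := Sum.elim (fun s => (0, s)) fun q => (q.1.succ, q.2)
  left_inv p := by
    by_cases h : p.1 = 0
    · simp [h, Prod.ext_iff]
    · simp [h]
  right_inv q := by
    rcases q with s | q
    · simp
    · simp [Fin.succ_ne_zero]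

variable [Nontrivial F]

lemma blk_det_step {r : ℕ} (ρ : D →+* Matrix (Fin n) (Fin n) F) (X : Matrix (Fin (r + 1)) (Fin (r + 1)) D)
    (h0 : X 0 0 ≠ 0) :
    ∃ S : Matrix (Fin r) (Fin r) D, (blk ρ (r + 1) X).det = (ρ (X 0 0)).det * (blk ρ r S).det := by
  classical
  set a := X 0 0
  let S : Matrix (Fin r) (Fin r) D := Matrix.of fun j l => X j.succ l.succ - X j.succ 0 * a⁻¹ * X 0 l.succ
  refine ⟨S, ?_⟩
  let e := splitEquiv r n
  let B : Matrix (Fin n) (Fin r × Fin n) F := Matrix.of fun s q => ρ (X 0 q.1.succ) s q.2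
  let C : Matrix (Fin r × Fin n) (Fin n) F := Matrix.of fun p t => ρ (X p.1.succ 0) p.2 t
  let E : Matrix (Fin r × Fin n) (Fin r × Fin n) F := Matrix.of fun p q => ρ (X p.1.succ q.1.succ) p.2 q.2
  have hM : (blk ρ (r + 1) X).submatrix e.symm e.symm = Matrix.fromBlocks (ρ a) B C E := by
    ext (s | p) (t | q) <;> simp [e, splitEquiv, blk_apply, B, C, E, a]
  letI : Invertible (ρ a) := ⟨ρ a⁻¹, by rw [← map_mul, inv_mul_cancel₀ h0, map_one],
    by rw [← map_mul, mul_inv_cancel₀ h0, map_one]⟩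
  rw [← Matrix.det_submatrix_equiv_self e.symm, hM, Matrix.det_fromBlocks₁₁]
  congr 2
  ext ⟨j, s⟩ ⟨l, t⟩
  have hinv : ⅟(ρ a) = ρ a⁻¹ := rfl
  rw [hinv, Matrix.sub_apply, blk_apply]
  have h1 : (C * ρ a⁻¹ * B) (j, s) (l, t) = (ρ (X j.succ 0) * ρ a⁻¹ * ρ (X 0 l.succ)) s t := by
    simp [Matrix.mul_apply, B, C]
  rw [h1]
  simp [S, E, map_sub, map_mul]

theorem blk_det_cases [IsDomain F] (ρ : D →+* Matrix (Fin n) (Fin n) F) :
    ∀ (r : ℕ) (X : Matrix (Fin r) (Fin r) D),
      (blk ρ r X).det = 0 ∨ ∃ d : D, d ≠ 0 ∧ (blk ρ r X).det = (ρ d).det := by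
  classical
  intro r
  induction r with
  | zero => exact fun X => Or.inr ⟨1, one_ne_zero, by simp⟩
  | succ r ih =>
    have main : ∀ X : Matrix (Fin (r + 1)) (Fin (r + 1)) D, X 0 0 ≠ 0 →
        (blk ρ (r + 1) X).det = 0 ∨ ∃ d : D, d ≠ 0 ∧ (blk ρ (r + 1) X).det = (ρ d).det := by
      intro X h0
      obtain ⟨S, hS⟩ := blk_det_step ρ X h0
      rcases ih S with h | ⟨d, hd, h⟩
      · exact Or.inl (by rw [hS, h, mul_zero])
      · exact Or.inr ⟨X 0 0 * d, mul_ne_zero h0 hd, by rw [hS, h, map_mul, Matrix.det_mul]⟩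
    intro X
    by_cases h0 : X 0 0 ≠ 0
    · exact main X h0
    push Not at h0
    by_cases hcol : ∀ i, X i 0 = 0
    · rcases Nat.eq_zero_or_pos n with rfl | hn
      · exact Or.inr ⟨1, one_ne_zero, by simp [Matrix.det_isEmpty]⟩
      · exact Or.inl (Matrix.det_eq_zero_of_column_eq_zero (0, ⟨0, hn⟩) fun p => by
          rw [blk_apply, hcol, map_zero]; rfl)
    push Not at hcol
    obtain ⟨i, hi⟩ := hcol
    have hi0 : i ≠ 0 := fun h => hi (h ▸ h0)
    let P : Matrix (Fin (r + 1)) (Fin (r + 1)) D := Matrix.single 0 0 1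
    let Q : Matrix (Fin (r + 1)) (Fin (r + 1)) D := Matrix.single 0 i 1
    have hQP : Q * P = 0 := Matrix.single_mul_single_of_ne _ _ _ _ hi0 _
    have hdet : (blk ρ (r + 1) (1 + P * Q)).det = 1 := by
      rw [map_add, map_one, map_mul, Matrix.det_one_add_mul_comm, ← map_mul, hQP, map_zero, add_zero,
        Matrix.det_one]
    have hX' : ((1 + P * Q) * X) 0 0 ≠ 0 := by
      rw [add_mul, one_mul, Matrix.add_apply, h0, zero_add]
      simp only [P, Q, Matrix.single_mul_single_same, mul_one, Matrix.single_mul_apply_same, one_mul]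
      exact hi
    have := main _ hX'
    rwa [map_mul, Matrix.det_mul, hdet, one_mul] at this

theorem blk_det_range (ρ : D →+* Matrix (Fin n) (Fin n) F) (r : ℕ) (d : D) :
    ∃ X : Matrix (Fin (r + 1)) (Fin (r + 1)) D, (blk ρ (r + 1) X).det = (ρ d).det := by
  classical
  refine ⟨Matrix.diagonal (Function.update (fun _ => (1 : D)) 0 d), ?_⟩
  by_cases hd : d = 0
  · subst hd
    rcases Nat.eq_zero_or_pos n with rfl | hn
    · simp [Matrix.det_isEmpty]
    · rw [map_zero, Matrix.det_eq_zero_of_row_eq_zero ((0 : Fin (r + 1)), (⟨0, hn⟩ : Fin n)) fun q => by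
          rw [blk_apply, Matrix.diagonal_apply]; split_ifs <;> simp]
      haveI : Nonempty (Fin n) := ⟨⟨0, hn⟩⟩
      exact Matrix.det_zero.symm
  · let e := splitEquiv r n
    have hM : (blk ρ (r + 1) (Matrix.diagonal (Function.update (fun _ => (1 : D)) 0 d))).submatrix e.symm e.symm =
        Matrix.fromBlocks (ρ d) 0 0 1 := by
      ext (s | p) (t | q)
      · simp [e, splitEquiv, blk_apply]
      · simp [e, splitEquiv, blk_apply, (Fin.succ_ne_zero q.1).symm]
      · simp [e, splitEquiv, blk_apply, Fin.succ_ne_zero]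
      · by_cases h : p.1 = q.1
        · simp [e, splitEquiv, blk_apply, h, Function.update_of_ne (Fin.succ_ne_zero q.1), Matrix.one_apply,
            Prod.ext_iff]
        · simp [e, splitEquiv, blk_apply, h, Matrix.one_apply, Prod.ext_iff]
    rw [← Matrix.det_submatrix_equiv_self e.symm, hM, Matrix.det_fromBlocks_zero₁₂, Matrix.det_one, mul_one]

end Groth.Agent.RN8
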